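import Groth.Agent.Lib.Lead.GE.FormalFam
import Groth.Agent.Lib.Lead.PS.FormalClosed
import Groth.Agent.Lib.Helper7.ClImmMod
import Groth.Agent.Lib.Helper2.AlgzExt1

/-! # `I · M`: functoriality, exactness and compatibility with inverse images -/

set_option autoImplicit false
universe u
open CategoryTheory Limits Opposite TopologicalSpace AlgebraicGeometry

namespace Groth.Agent.LD.TS

open Groth.Agent.LD.FF Groth.Agent.LD Groth.Agent.LD.GE

section General

variable {A : Type u} [CommRing A] {X : Scheme.{u}} [X.Over (Spec (CommRingCat.of A))]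

lemma smulMod_π (I : Ideal A) (M : X.Modules) (b : A) (hb : b ∈ I) :
    Formal.smulMod A M b ≫ cokernel.π (Formal.smulFamily I M) = 0 := by
  rw [← ι_σ I M ⟨b, hb⟩, Category.assoc, cokernel.condition, comp_zero]

lemma idealMulι_π (I : Ideal A) (M : X.Modules) :
    CohIII.idealMulι I M ≫ cokernel.π (Formal.smulFamily I M) = 0 := by
  apply idealMul_hom_ext
  intro b
  rw [eComp_ι_assoc, comp_zero, smulMod_π I M _ b.2]

/-- a morphism to `M` killed by the projection to `M / I M` factors through `I M`. -/
lemma exists_lift_idealMul (I : Ideal A) (M : X.Modules) {W : X.Modules} (w : W ⟶ M)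
    (hw : w ≫ cokernel.π (Formal.smulFamily I M) = 0) :
    ∃ v : W ⟶ CohIII.idealMul I M, v ≫ CohIII.idealMulι I M = w := by
  refine ⟨kernel.lift _ w hw ≫ (Abelian.imageIsoImage (Formal.smulFamily I M)).hom, ?_⟩
  change (_ ≫ _) ≫ Limits.image.ι (Formal.smulFamily I M) = w
  rw [Category.assoc, Abelian.imageIsoImage_hom_comp_image_ι, kernel.lift_ι]

/-- the lift. -/
noncomputable def liftI (I : Ideal A) (M : X.Modules) {W : X.Modules} (w : W ⟶ M)
    (hw : w ≫ cokernel.π (Formal.smulFamily I M) = 0) : W ⟶ CohIII.idealMul I M :=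
  Classical.choose (exists_lift_idealMul I M w hw)

@[reassoc]
lemma liftI_ι (I : Ideal A) (M : X.Modules) {W : X.Modules} (w : W ⟶ M)
    (hw : w ≫ cokernel.π (Formal.smulFamily I M) = 0) :
    liftI I M w hw ≫ CohIII.idealMulι I M = w :=
  Classical.choose_spec (exists_lift_idealMul I M w hw)

/-- `0 ⟶ I M ⟶ M ⟶ M / I M ⟶ 0`. -/
lemma shortExact_idealMul (I : Ideal A) (M : X.Modules) :
    (ShortComplex.mk (CohIII.idealMulι I M) (cokernel.π (Formal.smulFamily I M))
      (idealMulι_π I M)).ShortExact where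
  exact := ShortComplex.exact_of_f_is_kernel _
    (KernelFork.IsLimit.ofι' (CohIII.idealMulι I M) (idealMulι_π I M)
      (fun {_} w hw => ⟨liftI I M w hw, liftI_ι I M w hw⟩))
  mono_f := inferInstanceAs (Mono (CohIII.idealMulι I M))
  epi_g := inferInstanceAs (Epi (cokernel.π (Formal.smulFamily I M)))

lemma idealMulι_map_π (I : Ideal A) {M M' : X.Modules} (φ : M ⟶ M') :
    (CohIII.idealMulι I M ≫ φ) ≫ cokernel.π (Formal.smulFamily I M') = 0 := by
  apply idealMul_hom_ext
  intro b
  rw [comp_zero, Category.assoc, eComp_ι_assoc, ← Category.assoc, ← comp_smulMod, Category.assoc,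
    smulMod_π I M' _ b.2, comp_zero]

/-- functoriality of `I · M` in `M`. -/
noncomputable def idealMulMap (I : Ideal A) {M M' : X.Modules} (φ : M ⟶ M') :
    CohIII.idealMul I M ⟶ CohIII.idealMul I M' :=
  liftI I M' (CohIII.idealMulι I M ≫ φ) (idealMulι_map_π I φ)

@[reassoc]
lemma idealMulMap_ι (I : Ideal A) {M M' : X.Modules} (φ : M ⟶ M') :
    idealMulMap I φ ≫ CohIII.idealMulι I M' = CohIII.idealMulι I M ≫ φ :=
  liftI_ι _ _ _ _

@[reassoc]
lemma eComp_idealMulMap (I : Ideal A) {M M' : X.Modules} (φ : M ⟶ M') (b : I) :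
    eComp I M b ≫ idealMulMap I φ = φ ≫ eComp I M' b := by
  rw [← cancel_mono (CohIII.idealMulι I M'), Category.assoc, idealMulMap_ι, eComp_ι_assoc,
    Category.assoc, eComp_ι, comp_smulMod]

lemma idealMulMap_id (I : Ideal A) (M : X.Modules) : idealMulMap I (𝟙 M) = 𝟙 _ := by
  rw [← cancel_mono (CohIII.idealMulι I M), idealMulMap_ι, Category.comp_id, Category.id_comp]

lemma idealMulMap_comp (I : Ideal A) {M M' M'' : X.Modules} (φ : M ⟶ M') (ψ : M' ⟶ M'') :
    idealMulMap I (φ ≫ ψ) = idealMulMap I φ ≫ idealMulMap I ψ := by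
  rw [← cancel_mono (CohIII.idealMulι I M''), idealMulMap_ι, Category.assoc, idealMulMap_ι,
    idealMulMap_ι_assoc]

instance (I : Ideal A) {M M' : X.Modules} (φ : M ⟶ M') [IsIso φ] : IsIso (idealMulMap I φ) :=
  ⟨idealMulMap I (inv φ), by
    rw [← idealMulMap_comp, IsIso.hom_inv_id, idealMulMap_id], by
    rw [← idealMulMap_comp, IsIso.inv_hom_id, idealMulMap_id]⟩

/-- `eComp` is additive in the element of the ideal. -/
lemma eComp_sum (I : Ideal A) (M : X.Modules) {ι : Type*} (s : Finset ι) (c : ι → I) :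
    eComp I M (∑ i ∈ s, c i) = ∑ i ∈ s, eComp I M (c i) := by
  rw [← cancel_mono (CohIII.idealMulι I M), eComp_ι, Preadditive.sum_comp]
  simp only [eComp_ι]
  rw [← smulMod_sum]
  congr 1
  exact (AddSubmonoidClass.coe_finset_sum _ _)

/-- `I'' · (I M) = 0` when `I'' I ⊆ I'` and `I' M = 0`. -/
lemma killedBy_idealMul (I I' I'' : Ideal A) (M : X.Modules) (hM : Formal.KilledBy I' M)
    (h : ∀ a ∈ I'', ∀ b ∈ I, a * b ∈ I') : Formal.KilledBy I'' (CohIII.idealMul I M) := by
  intro a ha
  rw [← cancel_mono (CohIII.idealMulι I M), zero_comp, ← comp_smulMod]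
  exact ι_smulMod_eq_zero I I' M hM a (h a ha)

end General

section PB

variable {A : Type u} [CommRing A] {X Y : Scheme.{u}} [X.Over (Spec (CommRingCat.of A))]
  [Y.Over (Spec (CommRingCat.of A))] (h : Y ⟶ X) [h.IsOver (Spec (CommRingCat.of A))]

omit [Y.Over (Spec (CommRingCat.of A))] [h.IsOver (Spec (CommRingCat.of A))] in
/-- morphisms out of `h^*(I M)` are determined by their composites with the `h^*(eComp b)`. -/
lemma pb_idealMul_hom_ext (I : Ideal A) (M : X.Modules) {Z : Y.Modules}
    (f g : (Scheme.Modules.pullback h).obj (CohIII.idealMul I M) ⟶ Z)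
    (hfg : ∀ b : I, (Scheme.Modules.pullback h).map (eComp I M b) ≫ f =
      (Scheme.Modules.pullback h).map (eComp I M b) ≫ g) : f = g := by
  apply ((Scheme.Modules.pullbackPushforwardAdjunction h).homEquiv _ _).injective
  apply idealMul_hom_ext
  intro b
  rw [← Adjunction.homEquiv_naturality_left, ← Adjunction.homEquiv_naturality_left, hfg b]

lemma map_idealMulι_π (I : Ideal A) (M : X.Modules) :
    (Scheme.Modules.pullback h).map (CohIII.idealMulι I M) ≫
      cokernel.π (Formal.smulFamily I ((Scheme.Modules.pullback h).obj M)) = 0 := by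
  apply pb_idealMul_hom_ext
  intro b
  rw [comp_zero, ← Category.assoc, ← Functor.map_comp, eComp_ι, PS.pullback_map_smulMod,
    smulMod_π I _ _ b.2]

/-- the canonical epimorphism `h^*(I M) ⟶ I (h^* M)`. -/
noncomputable def beta (I : Ideal A) (M : X.Modules) :
    (Scheme.Modules.pullback h).obj (CohIII.idealMul I M) ⟶
      CohIII.idealMul I ((Scheme.Modules.pullback h).obj M) :=
  liftI I _ ((Scheme.Modules.pullback h).map (CohIII.idealMulι I M)) (map_idealMulι_π h I M)

@[reassoc]
lemma beta_ι (I : Ideal A) (M : X.Modules) :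
    beta h I M ≫ CohIII.idealMulι I ((Scheme.Modules.pullback h).obj M) =
      (Scheme.Modules.pullback h).map (CohIII.idealMulι I M) :=
  liftI_ι _ _ _ _

@[reassoc]
lemma map_eComp_beta (I : Ideal A) (M : X.Modules) (b : I) :
    (Scheme.Modules.pullback h).map (eComp I M b) ≫ beta h I M =
      eComp I ((Scheme.Modules.pullback h).obj M) b := by
  rw [← cancel_mono (CohIII.idealMulι I ((Scheme.Modules.pullback h).obj M)), Category.assoc,
    beta_ι, ← Functor.map_comp, eComp_ι, eComp_ι, PS.pullback_map_smulMod]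

instance epi_beta (I : Ideal A) (M : X.Modules) : Epi (beta h I M) := by
  refine ⟨fun {Z} f g hfg => ?_⟩
  apply idealMul_hom_ext
  intro b
  rw [← map_eComp_beta h I M b, Category.assoc, Category.assoc, hfg]

/-- `h^*(I M) ⟶ I (h^* M)` is an isomorphism for a closed immersion `h` when `M` and `I M` are
direct images from `Y`. -/
lemma isIso_beta [IsClosedImmersion h] (I : Ideal A) (M : X.Modules)
    (hM : IsIso ((Scheme.Modules.pullbackPushforwardAdjunction h).unit.app M))
    (hIM : IsIso ((Scheme.Modules.pullbackPushforwardAdjunction h).unit.app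
      (CohIII.idealMul I M))) : IsIso (beta h I M) := by
  haveI := hM
  haveI := hIM
  haveI : (Scheme.Modules.pushforward h).Faithful :=
    Groth.Agent.H7.ClImmMod.faithful_pushforward h
  have h1 := (Scheme.Modules.pullbackPushforwardAdjunction h).unit.naturality
    (CohIII.idealMulι I M)
  simp only [Functor.id_map, Functor.comp_map] at h1
  haveI : Mono ((Scheme.Modules.pushforward h).map
      ((Scheme.Modules.pullback h).map (CohIII.idealMulι I M))) := by
    have e : (Scheme.Modules.pushforward h).map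
        ((Scheme.Modules.pullback h).map (CohIII.idealMulι I M)) =
        inv ((Scheme.Modules.pullbackPushforwardAdjunction h).unit.app (CohIII.idealMul I M)) ≫
          CohIII.idealMulι I M ≫ (Scheme.Modules.pullbackPushforwardAdjunction h).unit.app M := by
      rw [IsIso.eq_inv_comp]
      exact h1.symm
    rw [e]
    infer_instance
  haveI : Mono ((Scheme.Modules.pushforward h).map (beta h I M ≫
      CohIII.idealMulι I ((Scheme.Modules.pullback h).obj M))) := by
    rw [beta_ι]
    infer_instance
  haveI : Mono (beta h I M ≫ CohIII.idealMulι I ((Scheme.Modules.pullback h).obj M)) :=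
    (Scheme.Modules.pushforward h).mono_of_mono_map inferInstance
  haveI : Mono (beta h I M) := mono_of_mono _ (CohIII.idealMulι I _)
  exact isIso_of_mono_of_epi _

end PB

end Groth.Agent.LD.TS
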