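import Groth.Agent.Lib.Lead.TS.Sys
import Groth.Agent.Lib.Lead.TS.IdealMulPB

/-! # The graded family `(J^(k+1) F_{k+1})_k` on `X_0` attached to a coherent module on an adic
system of schemes -/

set_option autoImplicit false
universe u
open CategoryTheory Limits Opposite TopologicalSpace AlgebraicGeometry

namespace Groth.Agent.LD.TS

open Groth.Agent.LD.FF Groth.Agent.LD Groth.Agent.LD.GE Groth.Agent.H2.FormalQ
  Groth.Agent.H2.FormalEq Groth.Agent.H2.AlgzExt

variable {A : Type u} [CommRing A] {J : Ideal A} (S : Sys J)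
  (F : ∀ k, (S.X k).Modules)
  (ψ : ∀ k, (Scheme.Modules.pullback (S.i k)).obj (F (k + 1)) ≅ F k)

omit S F ψ in
lemma pbComp_conj {W Y X : Scheme.{u}} (f : W ⟶ Y) (g : Y ⟶ X) {M N : X.Modules} (u : M ⟶ N) :
    (Scheme.Modules.pullbackComp f g).hom.app M ≫ (Scheme.Modules.pullback (f ≫ g)).map u ≫
      (Scheme.Modules.pullbackComp f g).inv.app N =
      (Scheme.Modules.pullback f).map ((Scheme.Modules.pullback g).map u) := by
  rw [← Category.assoc, ← NatTrans.naturality, Category.assoc, Iso.hom_inv_id_app,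
    Category.comp_id]
  rfl

/-- `j_k^* F_k ≅ F_0`. -/
noncomputable def chi : ∀ k, (Scheme.Modules.pullback (S.j k)).obj (F k) ≅ F 0
  | 0 => (Scheme.Modules.pullbackId (S.X 0)).app (F 0)
  | k + 1 => (Scheme.Modules.pullbackComp (S.j k) (S.i k)).symm.app (F (k + 1)) ≪≫
      (Scheme.Modules.pullback (S.j k)).mapIso (ψ k) ≪≫ chi k

lemma chi_succ_inv (k : ℕ) :
    (chi S F ψ (k + 1)).inv = (chi S F ψ k).inv ≫
      (Scheme.Modules.pullback (S.j k)).map (ψ k).inv ≫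
        (Scheme.Modules.pullbackComp (S.j k) (S.i k)).hom.app (F (k + 1)) := by
  change ((Scheme.Modules.pullbackComp (S.j k) (S.i k)).symm.app (F (k + 1)) ≪≫
      (Scheme.Modules.pullback (S.j k)).mapIso (ψ k) ≪≫ chi S F ψ k).inv = _
  simp only [Iso.trans_inv, Functor.mapIso_inv, Iso.app_inv, Iso.symm_inv, Category.assoc]

/-- the completion of `F_K` on `X_K`. -/
noncomputable abbrev G (K : ℕ) : ℕᵒᵖ ⥤ (S.X K).Modules := Formal.completion J (F K)

lemma hG (hF : ∀ k, Coh.IsCoh (F k)) (K : ℕ) : Formal.IsCohFormal J (G S F K) :=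
  isCohFormal_completion J (hF K)

/-- the projection `F_K ⟶ F_K / J^(n+1) F_K`. -/
noncomputable def πG (K n : ℕ) : F K ⟶ (G S F K).obj (op n) := Formal.modPowπ J (n + 1) (F K)

instance (K n : ℕ) : Epi (πG S F K n) := (isQ_modPowπ J (n + 1) (F K)).epi

lemma πG_tr (K n : ℕ) : πG S F K (n + 1) ≫ tr (G S F K) n = πG S F K n :=
  FF.π_completion_map J (F K) (Nat.le_succ n)

/-- `𝓝^K_k = j_K^*(J^(k+1) (F_K / J^(k+2) F_K))`. -/
noncomputable abbrev NN (K k : ℕ) : (S.X 0).Modules :=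
  (Scheme.Modules.pullback (S.j K)).obj (gr J (G S F K) k)

/-- the maps `F_0 ⟶ 𝓝^K_k` given by the elements of `J^(k+1)`. -/
noncomputable def ee (K k : ℕ) (b : ↥(J ^ (k + 1))) : F 0 ⟶ NN S F K k :=
  (chi S F ψ K).inv ≫ (Scheme.Modules.pullback (S.j K)).map
    (πG S F K (k + 1) ≫ eComp (J ^ (k + 1)) ((G S F K).obj (op (k + 1))) b)

lemma ee_sum (K k : ℕ) {ι : Type*} (s : Finset ι) (c : ι → ↥(J ^ (k + 1))) :
    ee S F ψ K k (∑ i ∈ s, c i) = ∑ i ∈ s, ee S F ψ K k (c i) := by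
  unfold ee
  rw [eComp_sum, Preadditive.comp_sum, Functor.map_sum, Preadditive.comp_sum]

/-- the `ee` are jointly epimorphic. -/
lemma NN_hom_ext (K k : ℕ) {Z : (S.X 0).Modules} (f g : NN S F K k ⟶ Z)
    (h : ∀ b, ee S F ψ K k b ≫ f = ee S F ψ K k b ≫ g) : f = g := by
  apply pb_idealMul_hom_ext (S.j K)
  intro b
  have h1 := h b
  unfold ee at h1
  rw [Category.assoc, Category.assoc, Functor.map_comp, Category.assoc, Category.assoc] at h1
  have h2 := (cancel_epi (chi S F ψ K).inv).mp h1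
  haveI : Epi ((Scheme.Modules.pullback (S.j K)).map (πG S F K (k + 1))) := inferInstance
  exact (cancel_epi ((Scheme.Modules.pullback (S.j K)).map (πG S F K (k + 1)))).mp h2

section T

variable (hF : ∀ k, Coh.IsCoh (F k))

/-- the operators on one level. -/
lemma ee_map_T (K k : ℕ) (a : A) (ha : a ∈ J) (b : ↥(J ^ (k + 1))) :
    ee S F ψ K k b ≫ (Scheme.Modules.pullback (S.j K)).map (T (hG S F hF K) a ha k) =
      ee S F ψ K (k + 1) ⟨a * b, mul_mem_aux ha k b⟩ := by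
  unfold ee
  rw [Category.assoc, ← Functor.map_comp]
  congr 2
  rw [Category.assoc, ← πG_tr S F K (k + 1), Category.assoc]
  congr 1
  exact tr_eComp_T (hG S F hF K) a ha k b

end T

section Theta

lemma exists_omega (K n : ℕ) :
    ∃ ω : (Scheme.Modules.pullback (S.i K)).obj (Formal.modPow J n (F (K + 1))) ≅
        Formal.modPow J n (F K),
      (Scheme.Modules.pullback (S.i K)).map (Formal.modPowπ J n (F (K + 1))) ≫ ω.hom =
        (ψ K).hom ≫ Formal.modPowπ J n (F K) :=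
  IsQ.exists_iso (isQ_pullback (S.i K) (comp_over (S.i K) _) (isQ_modPowπ J n (F (K + 1))))
    (isQ_iso_comp (ψ K).hom (isQ_modPowπ J n (F K)))

/-- `i_K^*(F_{K+1} / J^n F_{K+1}) ≅ F_K / J^n F_K`. -/
noncomputable def omega (K n : ℕ) :
    (Scheme.Modules.pullback (S.i K)).obj ((G S F (K + 1)).obj (op n)) ≅ (G S F K).obj (op n) :=
  Classical.choose (exists_omega S F ψ K (n + 1))

lemma map_πG_omega (K n : ℕ) :
    (Scheme.Modules.pullback (S.i K)).map (πG S F (K + 1) n) ≫ (omega S F ψ K n).hom =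
      (ψ K).hom ≫ πG S F K n :=
  Classical.choose_spec (exists_omega S F ψ K (n + 1))

/-- the comparison `𝓝^{K+1}_k ⟶ 𝓝^K_k`. -/
noncomputable def Theta (K k : ℕ) : NN S F (K + 1) k ⟶ NN S F K k :=
  (Scheme.Modules.pullbackComp (S.j K) (S.i K)).inv.app (gr J (G S F (K + 1)) k) ≫
    (Scheme.Modules.pullback (S.j K)).map
      (beta (S.i K) (J ^ (k + 1)) ((G S F (K + 1)).obj (op (k + 1))) ≫
        idealMulMap (J ^ (k + 1)) (omega S F ψ K (k + 1)).hom)

lemma ee_Theta (K k : ℕ) (b : ↥(J ^ (k + 1))) :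
    ee S F ψ (K + 1) k b ≫ Theta S F ψ K k = ee S F ψ K k b := by
  have h1 := pbComp_conj (S.j K) (S.i K)
    (πG S F (K + 1) (k + 1) ≫ eComp (J ^ (k + 1)) ((G S F (K + 1)).obj (op (k + 1))) b)
  have h2 : (Scheme.Modules.pullback (S.i K)).map
      (πG S F (K + 1) (k + 1) ≫ eComp (J ^ (k + 1)) ((G S F (K + 1)).obj (op (k + 1))) b) ≫
      beta (S.i K) (J ^ (k + 1)) ((G S F (K + 1)).obj (op (k + 1))) ≫
        idealMulMap (J ^ (k + 1)) (omega S F ψ K (k + 1)).hom =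
      (ψ K).hom ≫ πG S F K (k + 1) ≫ eComp (J ^ (k + 1)) ((G S F K).obj (op (k + 1))) b := by
    rw [Functor.map_comp, Category.assoc, map_eComp_beta_assoc, eComp_idealMulMap,
      ← Category.assoc, map_πG_omega, Category.assoc]
  show (((chi S F ψ K).inv ≫ (Scheme.Modules.pullback (S.j K)).map (ψ K).inv) ≫
      (Scheme.Modules.pullbackComp (S.j K) (S.i K)).hom.app (F (K + 1))) ≫
      (Scheme.Modules.pullback (S.j K ≫ S.i K)).map
        (πG S F (K + 1) (k + 1) ≫ eComp (J ^ (k + 1)) ((G S F (K + 1)).obj (op (k + 1))) b) ≫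
      ((Scheme.Modules.pullbackComp (S.j K) (S.i K)).inv.app
        (CohIII.idealMul (J ^ (k + 1)) ((G S F (K + 1)).obj (op (k + 1)))) ≫
      (Scheme.Modules.pullback (S.j K)).map
        (beta (S.i K) (J ^ (k + 1)) ((G S F (K + 1)).obj (op (k + 1))) ≫
          idealMulMap (J ^ (k + 1)) (omega S F ψ K (k + 1)).hom)) =
    (chi S F ψ K).inv ≫ (Scheme.Modules.pullback (S.j K)).map
      (πG S F K (k + 1) ≫ eComp (J ^ (k + 1)) ((G S F K).obj (op (k + 1))) b)
  simp only [Category.assoc]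
  rw [reassoc_of% h1, ← Functor.map_comp, h2, ← Functor.map_comp, Iso.inv_hom_id_assoc]

variable (hF : ∀ k, Coh.IsCoh (F k))

include hF in
/-- the comparison is an isomorphism in degrees `k + 1 ≤ K`. -/
lemma isIso_Theta (K k : ℕ) (hk : k + 1 ≤ K) : IsIso (Theta S F ψ K k) := by
  have hQc : Coh.IsCoh ((G S F (K + 1)).obj (op (k + 1))) := (hG S F hF (K + 1)).1 (k + 1)
  haveI := hQc.1
  haveI : (CohIII.idealMul (J ^ (k + 1)) ((G S F (K + 1)).obj (op (k + 1)))).IsQuasicoherent :=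
    qc_idealMul _ _ hQc.1
  have hle : J ^ (K + 1) ≤ J ^ (k + 1 + 1) := Ideal.pow_le_pow_right (by omega)
  have hkQ : Formal.KilledBy (J ^ (K + 1)) ((G S F (K + 1)).obj (op (k + 1))) :=
    killedBy_mono hle ((hG S F hF (K + 1)).2.1 (k + 1))
  have hkIQ : Formal.KilledBy (J ^ (K + 1))
      (CohIII.idealMul (J ^ (k + 1)) ((G S F (K + 1)).obj (op (k + 1)))) :=
    killedBy_idealMul _ _ _ _ hkQ (fun a ha b _ => Ideal.mul_mem_right _ _ ha)
  haveI : IsIso (beta (S.i K) (J ^ (k + 1)) ((G S F (K + 1)).obj (op (k + 1)))) :=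
    isIso_beta (S.i K) _ _ (S.isIso_unit_i K _ hkQ) (S.isIso_unit_i K _ hkIQ)
  haveI : IsIso (idealMulMap (J ^ (k + 1)) (omega S F ψ K (k + 1)).hom) := inferInstance
  haveI : IsIso (beta (S.i K) (J ^ (k + 1)) ((G S F (K + 1)).obj (op (k + 1))) ≫
      idealMulMap (J ^ (k + 1)) (omega S F ψ K (k + 1)).hom) := IsIso.comp_isIso
  have h1 : IsIso ((Scheme.Modules.pullbackComp (S.j K) (S.i K)).inv.app
      (gr J (G S F (K + 1)) k)) :=
    ⟨⟨(Scheme.Modules.pullbackComp (S.j K) (S.i K)).hom.app _, Iso.inv_hom_id_app _ _,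
      Iso.hom_inv_id_app _ _⟩⟩
  have h2 : IsIso ((Scheme.Modules.pullback (S.j K)).map
      (beta (S.i K) (J ^ (k + 1)) ((G S F (K + 1)).obj (op (k + 1))) ≫
        idealMulMap (J ^ (k + 1)) (omega S F ψ K (k + 1)).hom)) := inferInstance
  exact @IsIso.comp_isIso _ _ _ _ _ _ _ h1 h2

end Theta

section Fam

variable (hF : ∀ k, Coh.IsCoh (F k))

/-- the operators of the graded family on `X_0`. -/
noncomputable def TT (a : A) (ha : a ∈ J) (k : ℕ) : NN S F (k + 1) k ⟶ NN S F (k + 1 + 1) (k + 1) :=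
  haveI := isIso_Theta S F ψ hF (k + 1) k le_rfl
  inv (Theta S F ψ (k + 1) k) ≫
    (Scheme.Modules.pullback (S.j (k + 1 + 1))).map (T (hG S F hF (k + 1 + 1)) a ha k)

lemma ee_TT (a : A) (ha : a ∈ J) (k : ℕ) (b : ↥(J ^ (k + 1))) :
    ee S F ψ (k + 1) k b ≫ TT S F ψ hF a ha k =
      ee S F ψ (k + 1 + 1) (k + 1) ⟨a * b, mul_mem_aux ha k b⟩ := by
  haveI := isIso_Theta S F ψ hF (k + 1) k le_rfl
  unfold TT
  rw [← ee_Theta S F ψ (k + 1) k b, Category.assoc, IsIso.hom_inv_id_assoc,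
    ee_map_T S F ψ hF]

lemma TT_comm (a a' : A) (ha : a ∈ J) (ha' : a' ∈ J) (k : ℕ) :
    TT S F ψ hF a ha k ≫ TT S F ψ hF a' ha' (k + 1) =
      TT S F ψ hF a' ha' k ≫ TT S F ψ hF a ha (k + 1) := by
  apply NN_hom_ext S F ψ (k + 1) k
  intro b
  rw [← Category.assoc, ← Category.assoc, ee_TT, ee_TT, ee_TT, ee_TT]
  congr 1
  exact Subtype.ext (mul_left_comm _ _ _)

variable {s : ℕ} (a : Fin s → A) (ha : Ideal.span (Set.range a) = J)

/-- the graded family `(J^(k+1) F_{k+1})_k` on `X_0`. -/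
noncomputable def fam : GFam (S.X 0) s where
  N k := NN S F (k + 1) k
  T i k := TT S F ψ hF (a i) (a_mem a ha i) k
  comm i j k := TT_comm S F ψ hF _ _ _ _ k

lemma fam_isCoh [∀ k, IsLocallyNoetherian (S.X k)] : (fam S F ψ hF a ha).IsCoh := by
  intro k
  have h1 : Coh.IsCoh (gr J (G S F (k + 1)) k) :=
    isCoh_idealMul _ _ ((hG S F hF (k + 1)).1 (k + 1))
  haveI := h1.1
  exact ⟨QC.qc_pullback (S.j (k + 1)) _, QC.isFiniteType_pullback (S.j (k + 1)) _ h1.2⟩

/-- the sum of the operators. -/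
noncomputable def Phi (k : ℕ) :
    (∐ fun _ : Fin s => NN S F (k + 1) k) ⟶ NN S F (k + 1 + 1) (k + 1) :=
  Sigma.desc (fun i => TT S F ψ hF (a i) (a_mem a ha i) k)

lemma epi_Phi (k : ℕ) : Epi (Phi S F ψ hF a ha k) := by
  refine ⟨fun {Z} f g hfg => ?_⟩
  apply NN_hom_ext S F ψ (k + 1 + 1) (k + 1)
  intro c
  obtain ⟨b, hb, hbs⟩ := exists_of_mem_span_mul a (J ^ (k + 1)) (c : A) (by
    rw [ha, ← pow_succ']
    exact c.2)
  have hc : c = ∑ i, (⟨a i * b i, mul_mem_aux (a_mem a ha i) k ⟨b i, hb i⟩⟩ :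
      ↥(J ^ (k + 1 + 1))) := by
    apply Subtype.ext
    rw [hbs, AddSubmonoidClass.coe_finset_sum]
  rw [hc, ee_sum, Preadditive.sum_comp, Preadditive.sum_comp]
  refine Finset.sum_congr rfl fun i _ => ?_
  rw [← ee_TT S F ψ hF (a i) (a_mem a ha i) k ⟨b i, hb i⟩]
  have hT : TT S F ψ hF (a i) (a_mem a ha i) k =
      Sigma.ι (fun _ : Fin s => NN S F (k + 1) k) i ≫ Phi S F ψ hF a ha k := by
    unfold Phi
    rw [Sigma.ι_desc]
  rw [hT]
  simp only [Category.assoc]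
  rw [hfg]

/-- the family is generated from degree `0` on, over every affine open. -/
lemma fam_evGen [∀ k, IsLocallyNoetherian (S.X k)] (𝒰 : Set (S.X 0).Opens)
    (h𝒰 : ∀ U ∈ 𝒰, IsAffineOpen U) : (fam S F ψ hF a ha).EvGen 𝒰 0 := by
  intro k _ U hU x
  have hq : ∀ j, ((fam S F ψ hF a ha).N j).IsQuasicoherent := fun j =>
    (fam_isCoh S F ψ hF a ha j).1
  haveI : (NN S F (k + 1) k).IsQuasicoherent := hq k
  haveI : Epi (Phi S F ψ hF a ha k) := epi_Phi S F ψ hF a ha k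
  obtain ⟨z, rfl⟩ := QC.epi_app_affine (QC.qc_sigma_fin (NN S F (k + 1) k) s)
    (show (NN S F (k + 1 + 1) (k + 1)).IsQuasicoherent from hq (k + 1))
    (Phi S F ψ hF a ha k) (h𝒰 U hU) x
  refine ⟨fun i => (SC.sigmaProj (NN S F (k + 1) k) s i).app U z, ?_⟩
  have h := congrArg (fun φ => (φ ≫ Phi S F ψ hF a ha k).app U z)
    (SC.sigmaProj_total (NN S F (k + 1) k) s)
  simp only [Category.id_comp, Preadditive.sum_comp, Category.assoc] at h
  rw [← h, finset_sum_app]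
  refine Finset.sum_congr rfl fun i _ => ?_
  unfold Phi
  rw [Sigma.ι_desc]
  rfl

end Fam

end Groth.Agent.LD.TS
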