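import Groth.Agent.Lib.Lead.TS.Van
import Groth.Agent.Lib.Lead.QC.AmpleGG
import Groth.Agent.Lib.Lead.QC.SuppPullback
import Groth.Agent.Lib.Lead.SC.SerreCrit
import Groth.Agent.Lib.Lead.NF.AdicTriv

/-! # Uniform global generation of the twists on an adic system of schemes -/

set_option autoImplicit false
universe u
open CategoryTheory Limits Opposite TopologicalSpace AlgebraicGeometry

namespace Groth.Agent.LD.TS

open Groth.Agent.LD.FF Groth.Agent.LD Groth.Agent.LD.GE Groth.Agent.H2.FormalQ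
  Groth.Agent.H2.FormalEq Groth.Agent.H2.AlgzExt

section General

/-- **Nakayama along a surjective morphism**: a morphism to a quasi-coherent module of finite type
whose pullback along a surjective morphism is an epimorphism is an epimorphism. -/
lemma epi_of_epi_pullback_of_surjective {X Y : Scheme.{u}} (f : X ⟶ Y) [Surjective f]
    {E F : Y.Modules} [E.IsQuasicoherent] [F.IsQuasicoherent] (hF : F.IsFiniteType) (v : E ⟶ F)
    (h : Epi ((Scheme.Modules.pullback f).map v)) : Epi v := by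
  haveI hC : (cokernel v).IsQuasicoherent := QC.qc_cokernel v inferInstance inferInstance
  have hCft : (cokernel v).IsFiniteType :=
    QC.isFiniteType_of_epi (cokernel.π v) inferInstance hC hF
  have hz : IsZero (cokernel v) :=
    QC.isZero_of_isZero_pullback f (cokernel v) hCft ((QC.epi_pullback_iff_isZero f v).mp h)
  exact Abelian.epi_of_cokernel_π_eq_zero _ (hz.eq_of_tgt _ _)

/-- the pullback of a morphism from a finite free module, in terms of the pullbacks of the
sections. -/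
lemma epi_pullback_desc {X Y : Scheme.{u}} (f : X ⟶ Y) {M : Y.Modules} {r : ℕ}
    (s : Fin r → (QC.unitMod Y ⟶ M))
    (h : Epi (Sigma.desc (fun l => QC.pbHom f (s l)) :
      (∐ fun _ : Fin r => QC.unitMod X) ⟶ (Scheme.Modules.pullback f).obj M)) :
    Epi ((Scheme.Modules.pullback f).map (Sigma.desc s)) := by
  haveI := QC.isIso_pbHom_id f
  have e : Sigma.desc (fun l => QC.pbHom f (s l)) =
      (Limits.Sigma.map (fun _ : Fin r => QC.pbHom f (𝟙 (QC.unitMod Y))) ≫
        sigmaComparison (Scheme.Modules.pullback f) (fun _ : Fin r => QC.unitMod Y)) ≫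
        (Scheme.Modules.pullback f).map (Sigma.desc s) := by
    apply Sigma.hom_ext
    intro l
    rw [Sigma.ι_desc, Category.assoc, Limits.Sigma.ι_map_assoc, ι_comp_sigmaComparison_assoc,
      ← Functor.map_comp, Sigma.ι_desc, QC.pbHom_eq]
  rw [e] at h
  exact @epi_of_epi _ _ _ _ _ _ _ h

end General

variable {A : Type u} [CommRing A] {J : Ideal A} (S : Sys J)

instance specQuotTrans_surjective (k : ℕ) : Surjective (CohB1.specQuotTrans J k) := by
  refine ⟨fun x => ?_⟩
  let φ : A ⧸ J ^ (k + 2) →+* A ⧸ J ^ (k + 1) :=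
    Ideal.Quotient.factor (Ideal.pow_le_pow_right (Nat.le_succ (k + 1)))
  have hφ : Function.Surjective φ := Ideal.Quotient.factor_surjective _
  have hker : RingHom.ker φ ≤ x.asIdeal := by
    intro r hr
    obtain ⟨a, rfl⟩ := Ideal.Quotient.mk_surjective r
    have ha : a ∈ J ^ (k + 1) := by
      rw [RingHom.mem_ker] at hr
      exact Ideal.Quotient.eq_zero_iff_mem.mp hr
    have h2 : (Ideal.Quotient.mk (J ^ (k + 2)) a) ^ 2 = 0 := by
      rw [← map_pow, Ideal.Quotient.eq_zero_iff_mem]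
      have := Ideal.pow_mem_pow ha 2
      rw [← pow_mul] at this
      exact Ideal.pow_le_pow_right (by omega) this
    exact x.isPrime.mem_of_pow_mem 2 (h2 ▸ x.asIdeal.zero_mem)
  haveI := Ideal.map_isPrime_of_surjective hφ hker
  refine ⟨⟨x.asIdeal.map φ, inferInstance⟩, ?_⟩
  apply PrimeSpectrum.ext
  change (x.asIdeal.map φ).comap φ = x.asIdeal
  rw [Ideal.comap_map_of_surjective φ hφ, ← RingHom.ker_eq_comap_bot, sup_eq_left.mpr hker]

instance i_surjective (k : ℕ) : Surjective (S.i k) :=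
  MorphismProperty.of_isPullback (P := @Surjective) (S.hcart k).flip inferInstance

section Step

variable (L : ∀ k, (S.X k).Modules) (hL : ∀ k, PicF.IsInvertible (L k))
  (φ : ∀ k, (Scheme.Modules.pullback (S.i k)).obj (L (k + 1)) ≅ L k)
  (F : ∀ k, (S.X k).Modules) (hF : ∀ k, Coh.IsCoh (F k))
  (ψ : ∀ k, (Scheme.Modules.pullback (S.i k)).obj (F (k + 1)) ≅ F k)

include hL hF in
/-- global sections lift from `X_k` to `X_{k+1}` when `H¹` of the kernel vanishes. -/
lemma exists_pbHom_eq [IsNoetherianRing A] (k n : ℕ)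
    (h1 : Subsingleton (Coh.HH (S.X (k + 1))
      (CohB1.tensorMod (CohIII.idealMul (J ^ (k + 1)) (F (k + 1)))
        (CohB1.tensorPow (L (k + 1)) n)) 1))
    (σ : QC.unitMod (S.X k) ⟶ (Scheme.Modules.pullback (S.i k)).obj
      (CohB1.tensorMod (F (k + 1)) (CohB1.tensorPow (L (k + 1)) n))) :
    ∃ s : QC.unitMod (S.X (k + 1)) ⟶
        CohB1.tensorMod (F (k + 1)) (CohB1.tensorPow (L (k + 1)) n),
      QC.pbHom (S.i k) s = σ := by
  have hΛ : PicF.IsInvertible (CohB1.tensorPow (L (k + 1)) n) :=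
    QC.isInvertible_tensorPow (hL (k + 1)) n
  have hJ : J.FG := (isNoetherianRing_iff_ideal_fg A).mp inferInstance J
  have hS := QC.shortExact_tensorMap_of_isInvertible
    (shortExact_idealMul (J ^ (k + 1)) (F (k + 1))) _ hΛ
  have hsurj := SC.surjective_app_top_of_h1Zero hS (SC.h1Zero_of_HH _ h1)
  -- the quotient `ρ`
  set ρ := KoszTw.tensorMap (cokernel.π (Formal.smulFamily (J ^ (k + 1)) (F (k + 1))))
    (𝟙 (CohB1.tensorPow (L (k + 1)) n)) with hρ
  change Function.Surjective (ρ.app ⊤) at hsurj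
  -- `i^* ρ` is an isomorphism
  obtain ⟨e, he⟩ := exists_cokernel_smulFamily_tensor_iso (J ^ (k + 1)) (Ideal.FG.pow hJ)
    (F (k + 1)) hΛ
  haveI : IsIso ((Scheme.Modules.pullback (S.i k)).map
      (Formal.modPowπ J (k + 1) (CohB1.tensorMod (F (k + 1)) (CohB1.tensorPow (L (k + 1)) n)))) :=
    NF.isIso_pullback_map_modPowπ (J ^ (k + 1)) (S.i k) (S.p k) (S.hsq_i k) J (k + 1) rfl _
  haveI : IsIso ((Scheme.Modules.pullback (S.i k)).map ρ) := by
    have e1 : ρ = Formal.modPowπ J (k + 1)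
        (CohB1.tensorMod (F (k + 1)) (CohB1.tensorPow (L (k + 1)) n)) ≫ e.hom := he.symm
    rw [e1, Functor.map_comp]
    infer_instance
  -- the unit of the quotient is an isomorphism
  haveI : (Formal.modPow J (k + 1) (F (k + 1))).IsQuasicoherent :=
    (isCoh_modPow J (k + 1) (hF (k + 1))).1
  haveI := QC.qc_of_isInvertible _ hΛ
  haveI : (CohB1.tensorMod (Formal.modPow J (k + 1) (F (k + 1)))
      (CohB1.tensorPow (L (k + 1)) n)).IsQuasicoherent := QC.tensorMod_isQuasicoherent _ _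
  haveI hu : IsIso ((Scheme.Modules.pullbackPushforwardAdjunction (S.i k)).unit.app
      (CohB1.tensorMod (Formal.modPow J (k + 1) (F (k + 1))) (CohB1.tensorPow (L (k + 1)) n))) :=
    S.isIso_unit_i k _ (killedBy_tensorMod (killedBy_modPow J (k + 1) _) hΛ)
  -- chase
  set x := QC.sectionOfHom σ with hx
  obtain ⟨z, hz⟩ : ∃ z : Γ(CohB1.tensorMod (Formal.modPow J (k + 1) (F (k + 1)))
      (CohB1.tensorPow (L (k + 1)) n), ⊤),
      QC.unitSec (S.i k) _ ⊤ z = ((Scheme.Modules.pullback (S.i k)).map ρ).app ⊤ x := by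
    have hb : Function.Bijective (((Scheme.Modules.pullbackPushforwardAdjunction (S.i k)).unit.app
        (CohB1.tensorMod (Formal.modPow J (k + 1) (F (k + 1)))
          (CohB1.tensorPow (L (k + 1)) n))).app ⊤) := by
      rw [← ConcreteCategory.isIso_iff_bijective]
      exact Scheme.Modules.Hom.isIso_iff_isIso_app.mp hu ⊤
    exact hb.2 _
  obtain ⟨y, hy⟩ := hsurj z
  refine ⟨QC.homOfSection _ y, ?_⟩
  unfold QC.pbHom
  rw [QC.sectionOfHom_homOfSection, ← QC.homOfSection_sectionOfHom σ]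
  congr 1
  have hinj : Function.Injective (((Scheme.Modules.pullback (S.i k)).map ρ).app ⊤) := by
    have hb : Function.Bijective (((Scheme.Modules.pullback (S.i k)).map ρ).app ⊤) := by
      rw [← ConcreteCategory.isIso_iff_bijective]
      exact Scheme.Modules.Hom.isIso_iff_isIso_app.mp inferInstance ⊤
    exact hb.1
  apply hinj
  rw [QC.pbSec_naturality, hy, ← hz]
  unfold QC.pbSec
  exact QC.res_self _ _ _

include hL φ hF ψ in
/-- the inductive step: generating sections lift. -/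
lemma gg_succ [IsNoetherianRing A] (k n : ℕ)
    (h1 : Subsingleton (Coh.HH (S.X (k + 1))
      (CohB1.tensorMod (CohIII.idealMul (J ^ (k + 1)) (F (k + 1)))
        (CohB1.tensorPow (L (k + 1)) n)) 1))
    {r : ℕ} (s : Fin r → (QC.unitMod (S.X k) ⟶
      CohB1.tensorMod (F k) (CohB1.tensorPow (L k) n)))
    (hs : Epi (Sigma.desc s)) :
    ∃ s' : Fin r → (QC.unitMod (S.X (k + 1)) ⟶
        CohB1.tensorMod (F (k + 1)) (CohB1.tensorPow (L (k + 1)) n)),
      Epi (Sigma.desc s') := by
  have hΛ : PicF.IsInvertible (CohB1.tensorPow (L (k + 1)) n) :=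
    QC.isInvertible_tensorPow (hL (k + 1)) n
  obtain ⟨eΛ⟩ := nonempty_pb_i_tensorPow S L hL φ k n
  haveI := (hF (k + 1)).1
  haveI := QC.qc_of_isInvertible _ hΛ
  haveI : (CohB1.tensorMod (F (k + 1)) (CohB1.tensorPow (L (k + 1)) n)).IsQuasicoherent :=
    QC.tensorMod_isQuasicoherent _ _
  have hft : (CohB1.tensorMod (F (k + 1)) (CohB1.tensorPow (L (k + 1)) n)).IsFiniteType :=
    QC.isFiniteType_tensorMod_of_isInvertible _ (hF (k + 1)).2 _ hΛ
  let θ : (Scheme.Modules.pullback (S.i k)).obj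
      (CohB1.tensorMod (F (k + 1)) (CohB1.tensorPow (L (k + 1)) n)) ≅
      CohB1.tensorMod (F k) (CohB1.tensorPow (L k) n) :=
    QC.pbTensorIsoR (S.i k) (F (k + 1)) (CohB1.tensorPow (L (k + 1)) n) hΛ ≪≫
      QC.tensorIso' (ψ k) eΛ
  choose s' hs' using fun l => exists_pbHom_eq S L hL F hF k n h1 (s l ≫ θ.inv)
  refine ⟨s', ?_⟩
  haveI : (QC.unitMod (S.X (k + 1))).IsQuasicoherent :=
    QC.qc_of_isInvertible _ (QC.isInvertible_unit _)
  haveI : (∐ fun _ : Fin r => QC.unitMod (S.X (k + 1))).IsQuasicoherent := QC.qc_sigma_fin _ r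
  apply epi_of_epi_pullback_of_surjective (S.i k) hft (Sigma.desc s')
  apply epi_pullback_desc
  have e : Sigma.desc (fun l => QC.pbHom (S.i k) (s' l)) = Sigma.desc s ≫ θ.inv := by
    apply Sigma.hom_ext
    intro l
    rw [Sigma.ι_desc, Sigma.ι_desc_assoc, hs']
  rw [e]
  infer_instance

end Step

/-- **S5743.** -/
theorem s5743 (A : Type u) [CommRing A] [IsNoetherianRing A] (J : Ideal A) (S : Sys J)
    (hp : IsProper (S.p 0))
    (L : ∀ k, (S.X k).Modules) (hL : ∀ k, PicF.IsInvertible (L k))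
    (φ : ∀ k, Nonempty ((Scheme.Modules.pullback (S.i k)).obj (L (k + 1)) ≅ L k))
    (ha : CohB1.IsAmple (L 0))
    (F : ∀ k, (S.X k).Modules) (hF : ∀ k, Coh.IsCoh (F k))
    (ψ : ∀ k, Nonempty ((Scheme.Modules.pullback (S.i k)).obj (F (k + 1)) ≅ F k)) :
    ∃ N : ℕ, ∀ n : ℕ, N ≤ n → ∀ k : ℕ,
      Curv2.IsGloballyGenerated (CohB1.tensorMod (F k) (CohB1.tensorPow (L k) n)) := by
  obtain ⟨n₀, hn₀⟩ := exists_uniform_van S hp L hL (fun k => (φ k).some) ha F hF
    (fun k => (ψ k).some)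
  haveI : CompactSpace (S.X 0) := ha.2.1
  haveI : QuasiSeparatedSpace (S.X 0) := SC.quasiSeparatedSpace_of_isAmple (L 0) ha
  haveI := (hF 0).1
  obtain ⟨n₁, hn₁⟩ := QC.exists_epi_free_of_isAmple (L 0) ha (F 0) (hF 0).2
  refine ⟨max n₀ n₁, fun n hn k => ?_⟩
  have key : ∀ k, ∃ (r : ℕ) (s : Fin r → (QC.unitMod (S.X k) ⟶
      CohB1.tensorMod (F k) (CohB1.tensorPow (L k) n))), Epi (Sigma.desc s) := by
    obtain ⟨K, p, hpe⟩ := hn₁ n (le_trans (le_max_right _ _) hn)
    intro k
    induction k with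
    | zero =>
      refine ⟨K, fun l => Sigma.ι (fun _ : Fin K => QC.unitMod (S.X 0)) l ≫ p, ?_⟩
      have e : Sigma.desc (fun l => Sigma.ι (fun _ : Fin K => QC.unitMod (S.X 0)) l ≫ p) = p := by
        apply Sigma.hom_ext
        intro l
        rw [Sigma.ι_desc]
      rw [e]
      exact hpe
    | succ k ih =>
      obtain ⟨r, s, hs⟩ := ih
      obtain ⟨s', hs'⟩ := gg_succ S L hL (fun k => (φ k).some) F hF (fun k => (ψ k).some) k n
        (van_idealMul S L hL (fun k => (φ k).some) F hF k n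
          ((hn₀ n (le_trans (le_max_left _ _) hn)).1 k) 1 Nat.one_pos) s hs
      exact ⟨r, s', hs'⟩
  obtain ⟨r, s, hs⟩ := key k
  exact QC.isGloballyGenerated_of_epi_freeMod (Sigma.desc s) hs

end Groth.Agent.LD.TS
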