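import Groth.Agent.Lib.Lead.NF.AdicTriv
import Groth.Agent.Lib.Helper3.CA.DefT4
import Groth.Agent.Lib.Helper1.RegImmersion
import Groth.Agent.Lib.Lead.QC.Pullback
import Groth.Prelude.Def_CohB1

/-! # Adic systems of schemes `X_k` over `Spec (A / J^(k+1))`

The basic set-up: every `X_k` is a scheme over `Spec A`, the transition maps and their composites
`X_0 ⟶ X_k` are closed immersions over `A`, and they are the base changes of
`Spec (A/J^(k+1)) ⟶ Spec A`. -/

set_option autoImplicit false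
universe u
open CategoryTheory Limits Opposite TopologicalSpace AlgebraicGeometry

namespace Groth.Agent.LD.TS

variable {A : Type u} [CommRing A]

/-- an adic system of schemes. -/
structure Sys (J : Ideal A) where
  X : ℕ → Scheme.{u}
  p : ∀ k, X k ⟶ Spec (CommRingCat.of (A ⧸ J ^ (k + 1)))
  i : ∀ k, X k ⟶ X (k + 1)
  hcart : ∀ k, IsPullback (i k) (p k) (p (k + 1)) (CohB1.specQuotTrans J k)

namespace Sys

variable {J : Ideal A} (S : Sys J)

noncomputable instance instOver (k : ℕ) : (S.X k).Over (Spec (CommRingCat.of A)) := ⟨S.p k ≫ CohB1.specQuot J k⟩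

lemma over_def (k : ℕ) :
    (S.X k ↘ Spec (CommRingCat.of A)) = S.p k ≫ CohB1.specQuot J k := rfl

instance i_isOver (k : ℕ) : (S.i k).IsOver (Spec (CommRingCat.of A)) := ⟨by
  rw [over_def, over_def, ← Category.assoc, (S.hcart k).w, Category.assoc,
    CohB1.specQuotTrans_specQuot]⟩

/-- the closed immersion `X_0 ⟶ X_k`. -/
noncomputable def j : ∀ k, S.X 0 ⟶ S.X k
  | 0 => 𝟙 _
  | k + 1 => j k ≫ S.i k

lemma j_zero : S.j 0 = 𝟙 _ := rfl
lemma j_succ (k : ℕ) : S.j (k + 1) = S.j k ≫ S.i k := rfl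

instance j_isOver : ∀ k, (S.j k).IsOver (Spec (CommRingCat.of A))
  | 0 => ⟨by rw [j_zero, Category.id_comp]⟩
  | k + 1 => ⟨by
      haveI := j_isOver k
      rw [j_succ, Category.assoc, comp_over (S.i k), comp_over (S.j k)]⟩

instance specQuotTrans_closed (k : ℕ) : IsClosedImmersion (CohB1.specQuotTrans J k) :=
  IsClosedImmersion.spec_of_surjective _
    (Ideal.Quotient.factor_surjective (Ideal.pow_le_pow_right (Nat.le_succ (k + 1))))

instance specQuot_closed (k : ℕ) : IsClosedImmersion (CohB1.specQuot J k) :=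
  IsClosedImmersion.spec_of_surjective _ Ideal.Quotient.mk_surjective

instance i_closed (k : ℕ) : IsClosedImmersion (S.i k) :=
  MorphismProperty.of_isPullback (P := @IsClosedImmersion) (S.hcart k).flip inferInstance

instance j_closed : ∀ k, IsClosedImmersion (S.j k)
  | 0 => by rw [j_zero]; infer_instance
  | k + 1 => by
      haveI := j_closed k
      rw [j_succ]
      infer_instance

/-- `X_k = X_{k+1} ×_A A/J^(k+1)`. -/
lemma hsq_i (k : ℕ) :
    IsPullback (S.i k) (S.p k) (S.X (k + 1) ↘ Spec (CommRingCat.of A))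
      (Spec.map (CommRingCat.ofHom (algebraMap A (A ⧸ J ^ (k + 1))))) := by
  have hb : IsPullback (CohB1.specQuotTrans J k) (𝟙 _) (CohB1.specQuot J (k + 1))
      (CohB1.specQuot J k) :=
    IsPullback.of_vert_isIso_mono ⟨by rw [CohB1.specQuotTrans_specQuot, Category.id_comp]⟩
  have h := (S.hcart k).paste_vert hb
  rw [Category.comp_id] at h
  exact h

/-- the transition `Spec (A/J) ⟶ Spec (A/J^(k+1))`. -/
noncomputable def t (k : ℕ) :
    Spec (CommRingCat.of (A ⧸ J ^ (0 + 1))) ⟶ Spec (CommRingCat.of (A ⧸ J ^ (k + 1))) :=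
  Spec.map (CommRingCat.ofHom
    (Ideal.Quotient.factor (Ideal.pow_le_pow_right (Nat.succ_le_succ (Nat.zero_le k)))))

lemma t_specQuot (k : ℕ) : t (J := J) k ≫ CohB1.specQuot J k = CohB1.specQuot J 0 := by
  simp only [t, CohB1.specQuot, ← Spec.map_comp, ← CommRingCat.ofHom_comp]
  rfl

lemma t_zero : t (J := J) 0 = 𝟙 _ := by
  simp only [t]
  rw [← Spec.map_id]
  congr 1
  ext x
  rfl

lemma t_succ (k : ℕ) : t (J := J) (k + 1) = t k ≫ CohB1.specQuotTrans J k := by
  simp only [t, CohB1.specQuotTrans, ← Spec.map_comp, ← CommRingCat.ofHom_comp]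
  congr 2
  ext x
  rfl

lemma hsq_j' : ∀ k, IsPullback (S.j k) (S.p 0) (S.p k) (t k)
  | 0 => by
      rw [j_zero, t_zero]
      exact IsPullback.of_horiz_isIso ⟨by rw [Category.id_comp, Category.comp_id]⟩
  | k + 1 => by
      have h := (hsq_j' k).paste_horiz (S.hcart k)
      rw [← j_succ, ← t_succ] at h
      exact h

/-- `X_0 = X_k ×_A A/J`. -/
lemma hsq_j (k : ℕ) :
    IsPullback (S.j k) (S.p 0) (S.X k ↘ Spec (CommRingCat.of A))
      (Spec.map (CommRingCat.ofHom (algebraMap A (A ⧸ J ^ (0 + 1))))) := by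
  have hb : IsPullback (t (J := J) k) (𝟙 _) (CohB1.specQuot J k) (CohB1.specQuot J 0) :=
    IsPullback.of_vert_isIso_mono ⟨by rw [t_specQuot, Category.id_comp]⟩
  have h := (S.hsq_j' k).paste_vert hb
  rw [Category.comp_id] at h
  exact h

/-- the modules on `X_k` are killed by `J^(k+1)`. -/
lemma killedBy (k : ℕ) (M : (S.X k).Modules) : Formal.KilledBy (J ^ (k + 1)) M :=
  fun a ha => NF.smulMod_eq_zero_of_mem_ideal (J ^ (k + 1)) (S.i k) (S.p k) (S.hsq_i k) M a ha

lemma toGlobal_eq_zero (k : ℕ) (a : A) (ha : a ∈ J ^ (k + 1)) :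
    Coh.toGlobal (S.X k ↘ Spec (CommRingCat.of A)) a = 0 := by
  rw [CL.toGlobal_eq_appTop (S.i k) A a,
    FBC.toGlobal_compat _ (S.p k) (S.i k) (S.hsq_i k) a]
  have h4 : algebraMap A (A ⧸ J ^ (k + 1)) a = 0 := Ideal.Quotient.eq_zero_iff_mem.2 ha
  rw [h4, map_zero]

/-- a quasi-coherent module on `X_{k+1}` killed by `J^(k+1)` comes from `X_k`. -/
lemma isIso_unit_i (k : ℕ) (G : (S.X (k + 1)).Modules) [G.IsQuasicoherent]
    (hG : Formal.KilledBy (J ^ (k + 1)) G) :
    IsIso ((Scheme.Modules.pullbackPushforwardAdjunction (S.i k)).unit.app G) :=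
  Groth.Agent.H5.RelC.isIso_unit_of_killedBy (J ^ (k + 1)) (S.p k) (S.i k) (S.hsq_i k) G hG

/-- a quasi-coherent module on `X_k` killed by `J` comes from `X_0`. -/
lemma isIso_unit_j (k : ℕ) (G : (S.X k).Modules) [G.IsQuasicoherent]
    (hG : Formal.KilledBy (J ^ (0 + 1)) G) :
    IsIso ((Scheme.Modules.pullbackPushforwardAdjunction (S.j k)).unit.app G) :=
  Groth.Agent.H5.RelC.isIso_unit_of_killedBy (J ^ (0 + 1)) (S.p 0) (S.j k) (S.hsq_j k) G hG

section Noeth

open Groth.Agent.H2.FormalEq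

/-- the schemes `X_k` are locally Noetherian as soon as `X_0` is and `J` is finitely generated. -/
theorem isLocallyNoetherian (hJ : J.FG) [IsLocallyNoetherian (S.X 0)] (k : ℕ) :
    IsLocallyNoetherian (S.X k) := by
  refine ⟨fun U => ?_⟩
  obtain ⟨hU', hsurj⟩ :=
    Groth.Agent.H1.RegImmersion.affine_and_surjective_of_isClosedImmersion_restrict (S.j k) U.1 U.2
  set φ : Γ(S.X k, U.1) →+* Γ(S.X 0, S.j k ⁻¹ᵁ U.1) := ((S.j k).app U.1).hom with hφ
  haveI hN0 : IsNoetherianRing Γ(S.X 0, S.j k ⁻¹ᵁ U.1) :=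
    IsLocallyNoetherian.component_noetherian ⟨_, hU'⟩
  set I : Ideal Γ(S.X k, U.1) := Ideal.map (FBC.algAΓ (S.X k ↘ Spec (CommRingCat.of A)) U.1)
    (J ^ (0 + 1)) with hI
  -- kernel of `φ` is `I`
  have hker : RingHom.ker φ = I := by
    apply le_antisymm
    · intro r hr
      exact Groth.Agent.H5.RelC.mem_map_of_app_eq_zero (J ^ (0 + 1)) _ (S.p 0) (S.j k)
        (S.hsq_j k) U.1 U.2 r hr
    · rw [hI, Ideal.map_le_iff_le_comap]
      intro a ha
      rw [Ideal.mem_comap, RingHom.mem_ker]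
      change ((S.j k).app U.1).hom ((S.X k).presheaf.map (homOfLE le_top).op
        (Coh.toGlobal (S.X k ↘ Spec (CommRingCat.of A)) a)) = 0
      have h1 := S.toGlobal_eq_zero 0 a ha
      rw [CL.toGlobal_eq_appTop (S.j k) A a] at h1
      have h2 := congr($((S.j k).naturality (homOfLE (le_top : U.1 ≤ ⊤)).op)
        (Coh.toGlobal (S.X k ↘ Spec (CommRingCat.of A)) a))
      rw [CommRingCat.comp_apply, CommRingCat.comp_apply] at h2
      refine h2.trans ?_
      change ((S.X 0).presheaf.map _).hom ((S.j k).appTop.hom _) = 0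
      rw [h1]
      exact map_zero _
  have hIfg : I.FG := Ideal.FG.map (Ideal.FG.pow hJ) _
  have hInil : IsNilpotent I := by
    refine ⟨k + 1, ?_⟩
    rw [hI, ← Ideal.map_pow, Ideal.zero_eq_bot, eq_bot_iff, Ideal.map_le_iff_le_comap]
    intro a ha
    have ha' : a ∈ J ^ (k + 1) := by
      rw [← pow_mul] at ha
      simpa using ha
    rw [Ideal.mem_comap, Ideal.mem_bot]
    change ((S.X k).presheaf.map (homOfLE le_top).op).hom
      (Coh.toGlobal (S.X k ↘ Spec (CommRingCat.of A)) a) = 0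
    rw [S.toGlobal_eq_zero k a ha']
    exact map_zero _
  haveI : IsNoetherianRing (Γ(S.X k, U.1) ⧸ I) := by
    rw [← hker]
    exact isNoetherianRing_of_ringEquiv _ (RingHom.quotientKerEquivOfSurjective hsurj).symm
  exact Groth.Agent.H3.DefT.isNoetherianRing_of_isNilpotent hInil hIfg

end Noeth

end Sys

end Groth.Agent.LD.TS
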