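import Groth.Agent.Lib.Lead.TS.Fam
import Groth.Agent.Lib.Lead.GE.TwistModPow
import Groth.Agent.Lib.Lead.QC.PullInv
import Groth.Agent.Lib.Lead.QC.PullTensorInv
import Groth.Agent.Lib.Lead.QC.TensorComm
import Groth.Agent.Lib.Lead.QC.TensorQC
import Groth.Agent.Lib.Lead.PN.AmpleSerreRel

/-! # Uniform vanishing of the cohomology of the twists on an adic system of schemes -/

set_option autoImplicit false
universe u
open CategoryTheory Limits Opposite TopologicalSpace AlgebraicGeometry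

namespace Groth.Agent.LD.TS

open Groth.Agent.LD.FF Groth.Agent.LD Groth.Agent.LD.GE Groth.Agent.H2.FormalQ
  Groth.Agent.H2.FormalEq Groth.Agent.H2.AlgzExt

variable {A : Type u} [CommRing A] {J : Ideal A} (S : Sys J)

section Killed

variable {X : Scheme.{u}} [X.Over (Spec (CommRingCat.of A))]

/-- twisting by an invertible module preserves being killed by an ideal. -/
lemma killedBy_tensorMod {I : Ideal A} {M : X.Modules} (hM : Formal.KilledBy I M)
    {P : X.Modules} (hP : PicF.IsInvertible P) : Formal.KilledBy I (CohB1.tensorMod M P) := by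
  intro a ha
  rw [← tensorMap_smulMod_id M hP, hM a ha, QC.tensorMap_zero_id hP]

end Killed

section Twist

variable (L : ∀ k, (S.X k).Modules) (hL : ∀ k, PicF.IsInvertible (L k))
  (φ : ∀ k, (Scheme.Modules.pullback (S.i k)).obj (L (k + 1)) ≅ L k)

include hL φ in
/-- `j_k^*(L_k^n) ≅ L_0^n`. -/
lemma nonempty_pb_j_tensorPow (k n : ℕ) :
    Nonempty ((Scheme.Modules.pullback (S.j k)).obj (CohB1.tensorPow (L k) n) ≅
      CohB1.tensorPow (L 0) n) :=
  ⟨QC.pbTensorPowIso (S.j k) (L k) (hL k) n ≪≫ QC.tensorPowCongr (chi S L φ k) n⟩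

include hL φ in
/-- `i_k^*(L_{k+1}^n) ≅ L_k^n`. -/
lemma nonempty_pb_i_tensorPow (k n : ℕ) :
    Nonempty ((Scheme.Modules.pullback (S.i k)).obj (CohB1.tensorPow (L (k + 1)) n) ≅
      CohB1.tensorPow (L k) n) :=
  ⟨QC.pbTensorPowIso (S.i k) (L (k + 1)) (hL (k + 1)) n ≪≫ QC.tensorPowCongr (φ k) n⟩

variable (F : ∀ k, (S.X k).Modules) (hF : ∀ k, Coh.IsCoh (F k))
  (ψ : ∀ k, (Scheme.Modules.pullback (S.i k)).obj (F (k + 1)) ≅ F k)

include hL φ hF in
/-- vanishing for `J^(k+1) F_{k+1}` on `X_{k+1}` from vanishing for `𝓝_k` on `X_0`. -/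
lemma van_idealMul (k n : ℕ) (h : Van (L 0) n (NN S F (k + 1) k)) :
    Van (L (k + 1)) n (CohIII.idealMul (J ^ (k + 1)) (F (k + 1))) := by
  intro p hp
  have hΛ : PicF.IsInvertible (CohB1.tensorPow (L (k + 1)) n) :=
    QC.isInvertible_tensorPow (hL (k + 1)) n
  -- `J^(k+1) F_{k+1} ≅ gr`
  haveI : IsIso (πG S F (k + 1) (k + 1)) :=
    isIso_of_isQ_of_killedBy (isQ_modPowπ J (k + 1 + 1) (F (k + 1))) (S.killedBy (k + 1) _)
  let e₁ : CohIII.idealMul (J ^ (k + 1)) (F (k + 1)) ≅ gr J (G S F (k + 1)) k :=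
    asIso (idealMulMap (J ^ (k + 1)) (πG S F (k + 1) (k + 1)))
  refine AS.subsingleton_HH_of_iso' (QC.tensorIso' e₁.symm (Iso.refl _)) p ?_
  -- reduce to `X_0`
  have hQc : Coh.IsCoh ((G S F (k + 1)).obj (op (k + 1))) := (hG S F hF (k + 1)).1 (k + 1)
  haveI : (gr J (G S F (k + 1)) k).IsQuasicoherent := qc_idealMul _ _ hQc.1
  haveI := QC.qc_of_isInvertible _ hΛ
  haveI : (CohB1.tensorMod (gr J (G S F (k + 1)) k)
      (CohB1.tensorPow (L (k + 1)) n)).IsQuasicoherent := QC.tensorMod_isQuasicoherent _ _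
  have hk : Formal.KilledBy (J ^ (0 + 1)) (gr J (G S F (k + 1)) k) :=
    killedBy_idealMul _ _ _ _ ((hG S F hF (k + 1)).2.1 (k + 1)) (fun a ha b hb => by
      rw [zero_add, pow_one] at ha
      rw [pow_succ' J (k + 1)]
      exact Ideal.mul_mem_mul ha hb)
  haveI : IsIso ((Scheme.Modules.pullbackPushforwardAdjunction (S.j (k + 1))).unit.app
      (CohB1.tensorMod (gr J (G S F (k + 1)) k) (CohB1.tensorPow (L (k + 1)) n))) :=
    S.isIso_unit_j (k + 1) _ (killedBy_tensorMod hk hΛ)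
  refine (PS.cohE A (S.j (k + 1)) p (CohB1.tensorMod (gr J (G S F (k + 1)) k)
    (CohB1.tensorPow (L (k + 1)) n))).toEquiv.subsingleton_congr.mpr ?_
  obtain ⟨eΛ⟩ := nonempty_pb_j_tensorPow S L hL φ (k + 1) n
  exact AS.subsingleton_HH_of_iso'
    (QC.pbTensorIsoR (S.j (k + 1)) (gr J (G S F (k + 1)) k) (CohB1.tensorPow (L (k + 1)) n) hΛ ≪≫
      QC.tensorIso' (Iso.refl _) eΛ).symm p (h p hp)

include hL φ hF ψ in
/-- vanishing for `F_{k+1} / J^(k+1) F_{k+1}` on `X_{k+1}` from vanishing for `F_k` on `X_k`. -/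
lemma van_modPow (k n : ℕ) (h : Van (L k) n (F k)) :
    Van (L (k + 1)) n (Formal.modPow J (k + 1) (F (k + 1))) := by
  intro p hp
  have hΛ : PicF.IsInvertible (CohB1.tensorPow (L (k + 1)) n) :=
    QC.isInvertible_tensorPow (hL (k + 1)) n
  haveI : (Formal.modPow J (k + 1) (F (k + 1))).IsQuasicoherent :=
    (isCoh_modPow J (k + 1) (hF (k + 1))).1
  haveI := QC.qc_of_isInvertible _ hΛ
  haveI : (CohB1.tensorMod (Formal.modPow J (k + 1) (F (k + 1)))
      (CohB1.tensorPow (L (k + 1)) n)).IsQuasicoherent := QC.tensorMod_isQuasicoherent _ _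
  haveI : IsIso ((Scheme.Modules.pullbackPushforwardAdjunction (S.i k)).unit.app
      (CohB1.tensorMod (Formal.modPow J (k + 1) (F (k + 1))) (CohB1.tensorPow (L (k + 1)) n))) :=
    S.isIso_unit_i k _ (killedBy_tensorMod (killedBy_modPow J (k + 1) _) hΛ)
  refine (PS.cohE A (S.i k) p (CohB1.tensorMod (Formal.modPow J (k + 1) (F (k + 1)))
    (CohB1.tensorPow (L (k + 1)) n))).toEquiv.subsingleton_congr.mpr ?_
  obtain ⟨eΛ⟩ := nonempty_pb_i_tensorPow S L hL φ k n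
  haveI : IsIso ((Scheme.Modules.pullback (S.i k)).map
      (Formal.modPowπ J (k + 1) (F (k + 1)))) :=
    NF.isIso_pullback_map_modPowπ (J ^ (k + 1)) (S.i k) (S.p k) (S.hsq_i k) J (k + 1) rfl _
  let eQ : (Scheme.Modules.pullback (S.i k)).obj (Formal.modPow J (k + 1) (F (k + 1))) ≅ F k :=
    (asIso ((Scheme.Modules.pullback (S.i k)).map
      (Formal.modPowπ J (k + 1) (F (k + 1))))).symm ≪≫ ψ k
  exact AS.subsingleton_HH_of_iso'
    (QC.pbTensorIsoR (S.i k) (Formal.modPow J (k + 1) (F (k + 1)))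
      (CohB1.tensorPow (L (k + 1)) n) hΛ ≪≫ QC.tensorIso' eQ eΛ).symm p (h p hp)

include hL φ hF ψ in
/-- the inductive step. -/
lemma van_succ (k n : ℕ) (h0 : Van (L 0) n (NN S F (k + 1) k)) (h : Van (L k) n (F k)) :
    Van (L (k + 1)) n (F (k + 1)) :=
  van_X₂ A (shortExact_idealMul (J ^ (k + 1)) (F (k + 1))) (hL (k + 1)) n
    (van_idealMul S L hL φ F hF k n h0) (van_modPow S L hL φ F hF ψ k n h)

end Twist

/-- **Uniform vanishing on an adic system of schemes**, together with the uniform vanishing for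
the graded pieces. -/
theorem exists_uniform_van [IsNoetherianRing A] (hp : IsProper (S.p 0))
    (L : ∀ k, (S.X k).Modules) (hL : ∀ k, PicF.IsInvertible (L k))
    (φ : ∀ k, (Scheme.Modules.pullback (S.i k)).obj (L (k + 1)) ≅ L k)
    (ha : CohB1.IsAmple (L 0))
    (F : ∀ k, (S.X k).Modules) (hF : ∀ k, Coh.IsCoh (F k))
    (ψ : ∀ k, (Scheme.Modules.pullback (S.i k)).obj (F (k + 1)) ≅ F k) :
    ∃ n₀ : ℕ, ∀ n, n₀ ≤ n →
      (∀ k, Van (L 0) n (NN S F (k + 1) k)) ∧ ∀ k, Van (L k) n (F k) := by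
  haveI : IsProper (S.X 0 ↘ Spec (CommRingCat.of A)) := by
    rw [S.over_def]
    infer_instance
  haveI : IsLocallyNoetherian (S.X 0) :=
    LocallyOfFiniteType.isLocallyNoetherian (S.X 0 ↘ Spec (CommRingCat.of A))
  have hJ : J.FG := (isNoetherianRing_iff_ideal_fg A).mp inferInstance J
  haveI : ∀ k, IsLocallyNoetherian (S.X k) := fun k => S.isLocallyNoetherian hJ k
  haveI : CompactSpace (S.X 0) := ha.2.1
  obtain ⟨𝒰, h𝒰fin, h𝒰aff, h𝒰cov⟩ := exists_finite_affine_cover (S.X 0)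
  obtain ⟨T, hT⟩ := hJ
  let a : Fin T.card → A := fun i => (T.equivFin.symm i : A)
  have hspan : Ideal.span (Set.range a) = J := by
    rw [← hT]
    congr 1
    ext x
    constructor
    · rintro ⟨i, rfl⟩
      exact (T.equivFin.symm i).2
    · intro hx
      exact ⟨T.equivFin ⟨x, hx⟩, by simp [a]⟩
  obtain ⟨d₀, hd₀⟩ := uniform_van A ha h𝒰aff h𝒰fin h𝒰cov T.card (fam S F ψ hF a hspan)
    (fam_isCoh S F ψ hF a hspan) 0 (fam_evGen S F ψ hF a hspan 𝒰 h𝒰aff)
  obtain ⟨n₁, hn₁⟩ := PN.AmS.serre_vanishing_of_isAmple A (S.X 0 ↘ Spec (CommRingCat.of A))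
    (L 0) ha.1 ha (F 0) (hF 0)
  refine ⟨max d₀ n₁, fun n hn => ⟨fun k => hd₀ n (le_trans (le_max_left _ _) hn) k, fun k => ?_⟩⟩
  induction k with
  | zero => exact hn₁ n (le_trans (le_max_right _ _) hn)
  | succ k ih =>
    exact van_succ S L hL φ F hF ψ k n (hd₀ n (le_trans (le_max_left _ _) hn) k) ih

/-- **S5741.** -/
theorem s5741 (A : Type u) [CommRing A] [IsNoetherianRing A] (J : Ideal A) (S : Sys J)
    (hp : IsProper (S.p 0))
    (L : ∀ k, (S.X k).Modules) (hL : ∀ k, PicF.IsInvertible (L k))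
    (φ : ∀ k, Nonempty ((Scheme.Modules.pullback (S.i k)).obj (L (k + 1)) ≅ L k))
    (ha : CohB1.IsAmple (L 0))
    (F : ∀ k, (S.X k).Modules) (hF : ∀ k, Coh.IsCoh (F k))
    (ψ : ∀ k, Nonempty ((Scheme.Modules.pullback (S.i k)).obj (F (k + 1)) ≅ F k)) :
    ∃ n₀ : ℕ, ∀ n : ℕ, n₀ ≤ n → ∀ k : ℕ, ∀ q : ℕ, 0 < q →
      Subsingleton (Coh.HH (S.X k) (CohB1.tensorMod (F k) (CohB1.tensorPow (L k) n)) q) := by
  obtain ⟨n₀, hn₀⟩ := exists_uniform_van S hp L hL (fun k => (φ k).some) ha F hF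
    (fun k => (ψ k).some)
  exact ⟨n₀, fun n hn k q hq => (hn₀ n hn).2 k q hq⟩

end Groth.Agent.LD.TS
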